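import Mathlib
import Groth.Prelude.Def_GrassD
import Groth.Agent.Lib.Helper5.Euler.FibreRank

/-!
# Coherence lemmas for `Grass.quotBC` (helper5)
-/
set_option autoImplicit false
universe u
open CategoryTheory CategoryTheory.Limits AlgebraicGeometry

namespace Groth.Agent.Lib.Helper5.FlagGr

open Grass

section

variable {X G G' T : Scheme.{u}}

/-- `quotBC` is functorial in the quotient map -/
theorem quotBC_comp {π : G ⟶ X} {E : X.Modules} {Q Q' : G.Modules} {h : T ⟶ G} {g : T ⟶ X}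
    (hg : h ≫ π = g) (q : (Scheme.Modules.pullback π).obj E ⟶ Q) (t : Q ⟶ Q') :
    quotBC hg (q ≫ t) = quotBC hg q ≫ (Scheme.Modules.pullback h).map t := by
  simp [quotBC]

@[simp]
theorem pullbackCongr_rfl_inv_app {T X : Scheme.{u}} (f : T ⟶ X) (E : X.Modules) :
    (Scheme.Modules.pullbackCongr (rfl : f = f)).inv.app E = 𝟙 _ := by
  simp [Scheme.Modules.pullbackCongr]

/-- the associativity coherence evaluated at a module -/
theorem assoc_app {T F' F X : Scheme.{u}} (h : T ⟶ F') (ρ : F' ⟶ F) (π : F ⟶ X) (E : X.Modules) :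
    (Scheme.Modules.pullbackComp h (ρ ≫ π)).inv.app E ≫
      (Scheme.Modules.pullback h).map ((Scheme.Modules.pullbackComp ρ π).inv.app E) ≫
      (Scheme.Modules.pullbackComp h ρ).hom.app ((Scheme.Modules.pullback π).obj E) =
    (Scheme.Modules.pullbackCongr (Category.assoc h ρ π)).inv.app E ≫
      (Scheme.Modules.pullbackComp (h ≫ ρ) π).inv.app E := by
  have := congr_app (Scheme.Modules.pseudofunctor_associativity h ρ π) E
  simp only [NatTrans.comp_app, Functor.whiskerRight_app, Functor.associator_hom_app,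
    Functor.whiskerLeft_app, Category.id_comp, eqToHom_app] at this
  rw [← cancel_mono ((Scheme.Modules.pullbackComp (h ≫ ρ) π).hom.app E)]
  simp only [Category.assoc, Iso.inv_hom_id_app, Category.comp_id]
  rw [this]
  simp [Scheme.Modules.pullbackCongr]

/-- `quotBC` along a composite `h ≫ ρ` -/
theorem quotBC_trans {T F' F X : Scheme.{u}} {h : T ⟶ F'} {ρ : F' ⟶ F} {π : F ⟶ X} {π' : F' ⟶ X}
    {g₀ : T ⟶ X} {E : X.Modules} {Q : F.Modules}
    (hρ : ρ ≫ π = π') (hg : h ≫ π' = g₀) (hg' : (h ≫ ρ) ≫ π = g₀)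
    (q : (Scheme.Modules.pullback π).obj E ⟶ Q) :
    quotBC hg' q = quotBC hg (quotBC hρ q) ≫ (Scheme.Modules.pullbackComp h ρ).hom.app Q := by
  subst hρ
  subst hg
  have hnat := (Scheme.Modules.pullbackComp h ρ).hom.naturality q
  simp only [Functor.comp_map] at hnat
  have hA := assoc_app h ρ π E
  simp only [quotBC, Functor.map_comp, Category.assoc, pullbackCongr_rfl_inv_app, Functor.map_id,
    Category.id_comp]
  rw [hnat, reassoc_of% hA]

/-- `quotBC` of a quotient of a `quotBC` -/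
theorem quotBC_quotBC {T F' F X : Scheme.{u}} {h : T ⟶ F'} {ρ : F' ⟶ F} {π : F ⟶ X} {π' : F' ⟶ X}
    {g : T ⟶ F} {g₀ : T ⟶ X} {E : X.Modules} {Q : F.Modules} {Q'' : F'.Modules}
    (hρ : ρ ≫ π = π') (hg : h ≫ π' = g₀) (hh : h ≫ ρ = g) (hgπ : g ≫ π = g₀)
    (q : (Scheme.Modules.pullback π).obj E ⟶ Q) (u : (Scheme.Modules.pullback ρ).obj Q ⟶ Q'') :
    quotBC hg (quotBC hρ q ≫ u) = quotBC hgπ q ≫ quotBC hh u := by
  subst hh
  rw [quotBC_comp, quotBC_trans hρ hg hgπ q]
  simp only [quotBC, Category.assoc, pullbackCongr_rfl_inv_app, Category.id_comp,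
    Iso.hom_inv_id_app_assoc]

end

end Groth.Agent.Lib.Helper5.FlagGr
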