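import Mathlib
import Groth.Prelude.Def_GrassD
import Groth.Agent.Lib.Helper5.Euler.FibreRank
import Groth.Agent.Lib.Helper5.FlagGr.Coh

/-!
# The flag scheme of type `(n₀,…,n_{m+1})` is a Grassmannian over the flag scheme of type
`(n₀,…,n_m)` (helper5)
-/
set_option autoImplicit false
universe u
open CategoryTheory CategoryTheory.Limits AlgebraicGeometry

namespace Groth.Agent.Lib.Helper5.FlagGr

open Grass Groth.Agent.Lib.Helper5.FibreRank

section basics

variable {Y Z : Scheme.{u}}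

theorem flfRank_of_iso {M N : Y.Modules} (e : M ≅ N) {r : ℕ}
    (hM : FlatMod.IsFinLocFreeOfRank r M) : FlatMod.IsFinLocFreeOfRank r N := by
  intro y
  obtain ⟨U, hy, ⟨e'⟩⟩ := hM y
  exact ⟨U, hy, ⟨(Scheme.Modules.restrictFunctor U.ι).mapIso e.symm ≪≫ e'⟩⟩

/-- the pullback of a finite locally free module of rank `r` is finite locally free of rank `r` -/
theorem flfRank_pullback (g : Y ⟶ Z) (M : Z.Modules) (r : ℕ)
    (hM : FlatMod.IsFinLocFreeOfRank r M) :
    FlatMod.IsFinLocFreeOfRank r ((Scheme.Modules.pullback g).obj M) := by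
  intro y
  obtain ⟨U₁, hy, ⟨e⟩⟩ := hM (g.base y)
  let W : Y.Opens := g ⁻¹ᵁ U₁
  have ht : Set.range (W.ι ≫ g).base ⊆ U₁ := by
    rintro _ ⟨w, rfl⟩
    exact w.2
  refine ⟨W, hy, ⟨?_⟩⟩
  exact (Scheme.Modules.restrictFunctorIsoPullback W.ι).app _ ≪≫
    (Scheme.Modules.pullbackComp W.ι g).app M ≪≫ pullbackFreeOfRange (W.ι ≫ g) M U₁ r e ht

theorem epi_quotBC {X G T : Scheme.{u}} {π : G ⟶ X} {E : X.Modules} {Q : G.Modules}
    {h : T ⟶ G} {g : T ⟶ X} (hg : h ≫ π = g) (q : (Scheme.Modules.pullback π).obj E ⟶ Q)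
    [Epi q] : Epi (quotBC hg q) := by
  haveI := epi_pullback_map h q
  unfold quotBC
  infer_instance

end basics

section family

variable {T : Scheme.{u}} {m : ℕ}

/-- extend a family indexed by `Fin (m+1)` by one more term -/
theorem exists_family (A : Fin (m + 1) → T.Modules) (L M : T.Modules) (u : ∀ i, M ⟶ A i)
    (v : M ⟶ L) :
    ∃ (L' : Fin (m + 2) → T.Modules) (a : ∀ i, A i ≅ L' (Fin.castSucc i))
      (b : L ≅ L' (Fin.last (m + 1))) (s' : ∀ i, M ⟶ L' i),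
      (∀ i, s' (Fin.castSucc i) = u i ≫ (a i).hom) ∧ s' (Fin.last (m + 1)) = v ≫ b.hom := by
  let L' : Fin (m + 2) → T.Modules := Fin.lastCases (motive := fun _ => T.Modules) L A
  have ha : ∀ i, A i = L' (Fin.castSucc i) := fun i => by simp [L']
  have hb : L = L' (Fin.last (m + 1)) := by simp [L']
  refine ⟨L', fun i => eqToIso (ha i), eqToIso hb,
    fun i => Fin.lastCases (motive := fun i => M ⟶ L' i) (v ≫ eqToHom hb)
      (fun i => u i ≫ eqToHom (ha i)) i, fun i => ?_, ?_⟩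
  · simp
  · simp

end family

section main

variable {X F F' : Scheme.{u}} {π : F ⟶ X} {π' : F' ⟶ X} {E : X.Modules}
  {m : ℕ} {n : Fin (m + 2) → ℕ}
  {Q : Fin (m + 1) → F.Modules} {q : ∀ i, (Scheme.Modules.pullback π).obj E ⟶ Q i}
  {Q' : Fin (m + 2) → F'.Modules} {q' : ∀ i, (Scheme.Modules.pullback π').obj E ⟶ Q' i}

theorem isGrass_of_isFlag
    (hF : IsFlag π E (fun i => n (Fin.castSucc i)) Q q) (hF' : IsFlag π' E n Q' q')
    (ρ : F' ⟶ F) (hρ : ρ ≫ π = π')
    (ι : ∀ i, (Scheme.Modules.pullback ρ).obj (Q i) ≅ Q' (Fin.castSucc i))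
    (hι : ∀ i, quotBC hρ (q i) ≫ (ι i).hom = q' (Fin.castSucc i))
    (t : Q' (Fin.castSucc (Fin.last m)) ⟶ Q' (Fin.last (m + 1)))
    (ht : q' (Fin.castSucc (Fin.last m)) ≫ t = q' (Fin.last (m + 1))) :
    IsGrass ρ (Q (Fin.last m)) (n (Fin.last (m + 1))) (Q' (Fin.last (m + 1)))
      ((ι (Fin.last m)).hom ≫ t) := by
  have hq'last : quotBC hρ (q (Fin.last m)) ≫ (ι (Fin.last m)).hom ≫ t = q' (Fin.last (m + 1)) := by
    rw [← Category.assoc, hι, ht]
  refine ⟨hF'.rank _, ?_, ?_⟩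
  · haveI : Epi (q' (Fin.castSucc (Fin.last m)) ≫ t) := by rw [ht]; exact hF'.epi _
    haveI : Epi t := epi_of_epi (q' (Fin.castSucc (Fin.last m))) t
    infer_instance
  intro T g L hL s hs
  haveI := hs
  haveI : ∀ i, Epi (q i) := hF.epi
  -- the base morphism
  obtain ⟨sQ, hsQdef⟩ : ∃ sQ : ∀ i, (Scheme.Modules.pullback (g ≫ π)).obj E ⟶
      (Scheme.Modules.pullback g).obj (Q i), ∀ i, sQ i = quotBC (rfl : g ≫ π = (g ≫ π)) (q i) :=
    ⟨_, fun _ => rfl⟩
  haveI hsQ : ∀ i, Epi (sQ i) := fun i => by rw [hsQdef]; exact epi_quotBC _ _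
  have hnestQ : ∀ i j, i ≤ j → ∃ t₀ : (Scheme.Modules.pullback g).obj (Q i) ⟶
      (Scheme.Modules.pullback g).obj (Q j), sQ i ≫ t₀ = sQ j := by
    intro i j hij
    obtain ⟨t₀, ht₀⟩ := hF.nested i j hij
    exact ⟨(Scheme.Modules.pullback g).map t₀, by rw [hsQdef, hsQdef, ← ht₀, quotBC_comp]⟩
  obtain ⟨L', a, b, s', hs'c, hs'l⟩ := exists_family (fun i => (Scheme.Modules.pullback g).obj (Q i))
    L ((Scheme.Modules.pullback (g ≫ π)).obj E) sQ (sQ (Fin.last m) ≫ s)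
  have hL' : ∀ i, FlatMod.IsFinLocFreeOfRank (n i) (L' i) := by
    intro i
    refine Fin.lastCases ?_ (fun i => ?_) i
    · exact flfRank_of_iso b hL
    · exact flfRank_of_iso (a i) (flfRank_pullback g (Q i) _ (hF.rank i))
  have hs'epi : ∀ i, Epi (s' i) := by
    intro i
    refine Fin.lastCases ?_ (fun i => ?_) i
    · rw [hs'l]; infer_instance
    · rw [hs'c]; infer_instance
  have hnest' : ∀ i j, i ≤ j → ∃ t₀ : L' i ⟶ L' j, s' i ≫ t₀ = s' j := by
    intro i j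
    refine Fin.lastCases ?_ (fun j => ?_) j
    · refine Fin.lastCases ?_ (fun i => ?_) i
      · intro _; exact ⟨𝟙 _, Category.comp_id _⟩
      · intro _
        obtain ⟨t₀, ht₀⟩ := hnestQ i (Fin.last m) (Fin.le_last _)
        refine ⟨(a i).inv ≫ t₀ ≫ s ≫ b.hom, ?_⟩
        rw [hs'c, hs'l, Category.assoc, Iso.hom_inv_id_assoc, reassoc_of% ht₀, Category.assoc]
    · refine Fin.lastCases ?_ (fun i => ?_) i
      · intro hij
        exfalso
        have := Fin.castSucc_lt_last j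
        exact absurd (lt_of_le_of_lt hij this) (lt_irrefl _)
      · intro hij
        obtain ⟨t₀, ht₀⟩ := hnestQ i j (Fin.castSucc_le_castSucc_iff.mp hij)
        refine ⟨(a i).inv ≫ t₀ ≫ (a j).hom, ?_⟩
        rw [hs'c, hs'c, Category.assoc, Iso.hom_inv_id_assoc, reassoc_of% ht₀]
  obtain ⟨h, ⟨hg, e, he⟩, huniq⟩ := hF'.univ T (g ≫ π) L' hL' s' hs'epi hnest'
  -- `h ≫ ρ = g`
  have hh : h ≫ ρ = g := by
    have hu := hF.univ T (g ≫ π) (fun i => (Scheme.Modules.pullback g).obj (Q i))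
      (fun i => flfRank_pullback g (Q i) _ (hF.rank i)) sQ hsQ hnestQ
    have hg'' : (h ≫ ρ) ≫ π = (g ≫ π) := by rw [Category.assoc, hρ, hg]
    refine hu.unique ⟨hg'', fun i => (Scheme.Modules.pullbackComp h ρ).symm.app (Q i) ≪≫
      (Scheme.Modules.pullback h).mapIso (ι i) ≪≫ e (Fin.castSucc i) ≪≫ (a i).symm, fun i => ?_⟩
      ⟨rfl, fun i => Iso.refl _, fun i => by rw [hsQdef]; exact Category.comp_id _⟩
    have hkey : quotBC hg (quotBC hρ (q i)) ≫ (Scheme.Modules.pullback h).map (ι i).hom =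
        quotBC hg (q' (Fin.castSucc i)) := by rw [← quotBC_comp, hι]
    rw [quotBC_trans hρ hg hg'' (q i)]
    simp only [Iso.trans_hom, Iso.app_hom, Iso.symm_hom, Functor.mapIso_hom]
    rw [Category.assoc, Iso.hom_inv_id_app_assoc, ← Category.assoc, hkey, ← Category.assoc, he,
      hs'c, Category.assoc, Iso.hom_inv_id, Category.comp_id]
  refine ⟨h, ⟨hh, e (Fin.last (m + 1)) ≪≫ b.symm, ?_⟩, ?_⟩
  · rw [← cancel_epi (sQ (Fin.last m))]
    have := quotBC_quotBC hρ hg hh (rfl : g ≫ π = (g ≫ π)) (q (Fin.last m)) ((ι (Fin.last m)).hom ≫ t)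
    rw [hq'last, ← hsQdef] at this
    simp only [Iso.trans_hom, Iso.symm_hom]
    rw [← Category.assoc, ← this, ← Category.assoc, he, hs'l]
    simp only [Category.assoc, Iso.hom_inv_id, Category.comp_id]
  · rintro h₁ ⟨hh₁, e₁, he₁⟩
    have hg₁ : h₁ ≫ π' = (g ≫ π) := by rw [← hρ, ← Category.assoc, hh₁]
    have key : ∀ i, ∃ e' : (Scheme.Modules.pullback h₁).obj (Q' i) ≅ L' i,
        quotBC hg₁ (q' i) ≫ e'.hom = s' i := by
      intro i
      refine Fin.lastCases ?_ (fun j => ?_) i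
      · refine ⟨e₁ ≪≫ b, ?_⟩
        have := quotBC_quotBC hρ hg₁ hh₁ (rfl : g ≫ π = (g ≫ π)) (q (Fin.last m))
          ((ι (Fin.last m)).hom ≫ t)
        rw [hq'last, ← hsQdef] at this
        rw [this, hs'l, Iso.trans_hom, Category.assoc, ← Category.assoc (quotBC hh₁ _), he₁,
          Category.assoc]
      · refine ⟨(Scheme.Modules.pullback h₁).mapIso (ι j).symm ≪≫
          (Scheme.Modules.pullbackComp h₁ ρ).app (Q j) ≪≫
          (Scheme.Modules.pullbackCongr hh₁).app (Q j) ≪≫ a j, ?_⟩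
        have := quotBC_quotBC hρ hg₁ hh₁ (rfl : g ≫ π = (g ≫ π)) (q j) (ι j).hom
        rw [hι] at this
        rw [this, hs'c, hsQdef]
        simp only [quotBC, Iso.trans_hom, Functor.mapIso_hom, Iso.symm_hom, Iso.app_hom,
          Category.assoc, pullbackCongr_rfl_inv_app, Category.id_comp]
        rw [← Functor.map_comp_assoc, Iso.hom_inv_id, CategoryTheory.Functor.map_id,
          Category.id_comp, Iso.inv_hom_id_app_assoc, Iso.inv_hom_id_app_assoc]
    choose e' he' using key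
    exact huniq h₁ ⟨hg₁, e', he'⟩

end main

end Groth.Agent.Lib.Helper5.FlagGr
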